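import Mathlib
import Cfsg.Agent.H561.Eight.Blk
import Cfsg.Agent.H703.Lat.Basic
import Cfsg.Agent.H80.K6.Crit
import Cfsg.Agent.H49.ThFiveDat_m3
import Cfsg.Agent.H755.CC.ThBase
import Cfsg.Agent.FastGrp
import Cfsg.Agent.Prune
set_option linter.all false

section
prune_inst 0x7f00000000000000000000000000000000000000000000000000000000000000000000000000000000000000000000000000000000000000000000000000000000000000000000000000000000000000003fffffffffffffffffffffffffffbeffbdffffffff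

-- part: H404/K6/Sieve
section
set_option linter.all false
open scoped Cfsg.Agent.FastGrp

/-!
S4876, helper404: values of the characters at elements of prime order `q` with self-centralizing Sylow `q`-subgroup, for
the congruences `∑_{χ ∈ B₀(p)} χ(1) χ(x) ≡ 0 mod |G|_p` (`H703.Lat.theta_dvd`).
-/

set_option autoImplicit false
set_option linter.unusedSectionVars false

namespace Cfsg.Agent.H404.K6.Sieve

open Subgroup Cfsg Cfsg.Agent.SmallSimple.DegreeData Cfsg.Agent.Characters.Core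

universe u

variable {G : Type u} [Group G] [Finite G] {q : ℕ} [hq : Fact q.Prime] {M : Ideal AlgInt} {P : Sylow q G} {e t : ℕ}

/-- The values of a character outside the exceptional ones. -/
theorem type (D : BlockData q M P e t) (hM : IsPModular q M) (hP : Nat.card P = q)
    (hC : centralizer ((P : Subgroup G) : Set G) = (P : Subgroup G)) {χ : IrrCharacter G} (hX : χ ∉ D.X) :
    ∃ ε : ℤ, (ε = 0 ∨ ε = 1 ∨ ε = -1) ∧ (charDegree (χ : G → ℂ) : ℤ) ≡ ε [ZMOD q] ∧
      ∀ x ∈ P, x ≠ 1 → (χ : G → ℂ) x = ε := by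
  by_cases h : χ ∈ principalBlock M G
  · rcases (D.mem_block χ).1 h with h1 | h1
    · refine ⟨D.ε χ, Or.inr (D.ε_mem χ h1), ?_, fun x hx hx1 => D.val' h1 hx hx1⟩
      have h2 := D.sd_modEq hP h1
      unfold BlockData.sd at h2
      have h3 := h2.mul_left (D.ε χ)
      rcases D.ε_mem χ h1 with h4 | h4 <;> rw [h4] at h3 ⊢ <;> simpa using h3
    · exact absurd h1 hX
  · refine ⟨0, Or.inl rfl, ?_, fun x hx hx1 => ?_⟩
    · exact (Int.modEq_zero_iff_dvd).2 (Int.natCast_dvd_natCast.2 (D.dvd_degree hM hP hC h))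
    · rw [D.vanish hM hP hC h hx hx1]
      simp

theorem modEq_X (D : BlockData q M P e t) (hP : Nat.card P = q) {Θ : IrrCharacter G} (hΘ : Θ ∈ D.X) :
    (charDegree (Θ : G → ℂ) : ℤ) ≡ D.d * e [ZMOD q] := by
  have h1 := exc_modEq (P := (P : Subgroup G)) hP D.d_mem (D.card_S Θ hΘ) (D.one_notMem_S Θ hΘ)
    (fun x hx => D.val_X' hΘ x hx)
  have h3 := h1.mul_left D.d
  rcases D.d_mem with h4 | h4 <;> rw [h4] at h3 ⊢ <;> simpa using h3

theorem sum_lin {P : Type*} [Group P] [Fintype P] [DecidableEq P] {l : P →* ℂˣ} (hl : l ≠ 1) :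
    ∑ x ∈ Finset.univ.erase (1 : P), ((l x : ℂˣ) : ℂ) = -1 := by
  classical
  have h1 := sum_hom_units_eq_zero ((Units.coeHom ℂ).comp l) (by
    intro h
    apply hl
    ext x
    have h2 := DFunLike.congr_fun h x
    simpa using h2)
  have h2 := Finset.add_sum_erase Finset.univ (fun x : P => ((l x : ℂˣ) : ℂ)) (Finset.mem_univ 1)
  simp only [map_one, Units.val_one] at h2
  have h3 : ∑ x : P, ((l x : ℂˣ) : ℂ) = 0 := h1
  rw [h3] at h2
  linear_combination h2

theorem sum_X (D : BlockData q M P e t) [Fintype P] [DecidableEq P] {Θ : IrrCharacter G} (hΘ : Θ ∈ D.X) :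
    ∑ x ∈ Finset.univ.erase (1 : P), (Θ : G → ℂ) x = -(D.d * e) := by
  have h1 : ∑ x ∈ Finset.univ.erase (1 : P), (Θ : G → ℂ) x =
      ∑ x ∈ Finset.univ.erase (1 : P), D.d * ∑ l ∈ D.S Θ, ((l x : ℂˣ) : ℂ) :=
    Finset.sum_congr rfl fun x hx => D.val_X' hΘ x (Finset.ne_of_mem_erase hx)
  have h2 : ∀ l ∈ D.S Θ, ∑ x ∈ Finset.univ.erase (1 : P), ((l x : ℂˣ) : ℂ) = -1 := fun l hl =>
    sum_lin (fun h => D.one_notMem_S Θ hΘ (h ▸ hl))
  rw [h1, ← Finset.mul_sum, Finset.sum_comm]
  rw [Finset.sum_congr rfl h2, Finset.sum_const, D.card_S Θ hΘ]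
  simp

theorem sum_X_inv (D : BlockData q M P e t) [Fintype P] [DecidableEq P] {Θ : IrrCharacter G} (hΘ : Θ ∈ D.X) :
    ∑ x ∈ Finset.univ.erase (1 : P), (Θ : G → ℂ) ((x⁻¹ : P) : G) = -(D.d * e) := by
  rw [← sum_X D hΘ]
  refine Finset.sum_nbij' (fun x => x⁻¹) (fun x => x⁻¹) ?_ ?_ ?_ ?_ ?_
  · intro x hx
    exact Finset.mem_erase.2 ⟨inv_ne_one.2 (Finset.ne_of_mem_erase hx), Finset.mem_univ _⟩
  · intro x hx
    exact Finset.mem_erase.2 ⟨inv_ne_one.2 (Finset.ne_of_mem_erase hx), Finset.mem_univ _⟩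
  · intro x _
    exact inv_inv x
  · intro x _
    exact inv_inv x
  · intro x _
    rfl

theorem sum_sq_X (D : BlockData q M P e t) (hP : Nat.card P = q) [Fintype P] [DecidableEq P] {Θ : IrrCharacter G}
    (hΘ : Θ ∈ D.X) :
    ∑ x ∈ Finset.univ.erase (1 : P), (Θ : G → ℂ) x * (Θ : G → ℂ) ((x⁻¹ : P) : G) = e * (q - e) := by
  classical
  have h1 : ∑ x ∈ Finset.univ.erase (1 : P), (Θ : G → ℂ) x * (Θ : G → ℂ) ((x⁻¹ : P) : G) =
      ∑ x ∈ Finset.univ.erase (1 : P), ∑ l ∈ D.S Θ, ∑ m ∈ D.S Θ, (((l * m⁻¹) x : ℂˣ) : ℂ) := by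
    refine Finset.sum_congr rfl fun x hx => ?_
    have hx1 := Finset.ne_of_mem_erase hx
    rw [D.val_X' hΘ x hx1, D.val_X' hΘ x⁻¹ (inv_ne_one.2 hx1)]
    have hdd : (D.d : ℂ) * D.d = 1 := by
      rcases D.d_mem with h | h <;> rw [h] <;> simp
    have h2 : (∑ l ∈ D.S Θ, ((l x : ℂˣ) : ℂ)) * (∑ m ∈ D.S Θ, ((m x⁻¹ : ℂˣ) : ℂ)) =
        ∑ l ∈ D.S Θ, ∑ m ∈ D.S Θ, (((l * m⁻¹) x : ℂˣ) : ℂ) := by
      rw [Finset.sum_mul_sum]
      refine Finset.sum_congr rfl fun l _ => Finset.sum_congr rfl fun m _ => ?_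
      rw [MonoidHom.mul_apply, MonoidHom.inv_apply, Units.val_mul, map_inv]
    rw [← h2]
    linear_combination ((∑ l ∈ D.S Θ, ((l x : ℂˣ) : ℂ)) * (∑ m ∈ D.S Θ, ((m x⁻¹ : ℂˣ) : ℂ))) * hdd
  rw [h1, Finset.sum_comm]
  have h2 : ∀ l ∈ D.S Θ, ∑ x ∈ Finset.univ.erase (1 : P), ∑ m ∈ D.S Θ, (((l * m⁻¹) x : ℂˣ) : ℂ) = (q - e : ℂ) := by
    intro l hl
    rw [Finset.sum_comm, ← Finset.add_sum_erase _ _ hl]
    have h3 : ∑ x ∈ Finset.univ.erase (1 : P), (((l * l⁻¹) x : ℂˣ) : ℂ) = q - 1 := by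
      have h4 : ∀ x : P, (((l * l⁻¹) x : ℂˣ) : ℂ) = 1 := fun x => by
        rw [MonoidHom.mul_apply, MonoidHom.inv_apply, mul_inv_cancel, Units.val_one]
      simp only [h4, Finset.sum_const, nsmul_eq_mul, mul_one]
      rw [Finset.card_erase_of_mem (Finset.mem_univ _), Finset.card_univ, ← Nat.card_eq_fintype_card,
        show Nat.card (↥P) = q from hP, Nat.cast_sub hq.out.one_lt.le, Nat.cast_one]
    have h5 : ∀ m ∈ (D.S Θ).erase l, ∑ x ∈ Finset.univ.erase (1 : P), (((l * m⁻¹) x : ℂˣ) : ℂ) = -1 := by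
      intro m hm
      refine sum_lin fun h => Finset.ne_of_mem_erase hm ?_
      refine MonoidHom.ext fun x => ?_
      have h6 := DFunLike.congr_fun h x
      rw [MonoidHom.mul_apply, MonoidHom.inv_apply, MonoidHom.one_apply] at h6
      exact (mul_inv_eq_one.1 h6).symm
    rw [h3, Finset.sum_congr rfl h5, Finset.sum_const, Finset.card_erase_of_mem hl, D.card_S Θ hΘ]
    have he : 1 ≤ e := by rw [← D.card_S Θ hΘ]; exact Finset.card_pos.2 ⟨l, hl⟩
    rw [nsmul_eq_mul, Nat.cast_sub he, Nat.cast_one]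
    ring
  rw [Finset.sum_congr rfl h2, Finset.sum_const, D.card_S Θ hΘ, nsmul_eq_mul]

theorem centralizer_eq (hP : Nat.card P = q) (hC : Nat.card (centralizer ((P : Subgroup G) : Set G)) = q) :
    centralizer ((P : Subgroup G) : Set G) = (P : Subgroup G) := by
  symm
  refine Subgroup.eq_of_le_of_card_ge ?_ (by rw [hC]; exact hP.symm.le)
  have : IsCyclic P := isCyclic_of_prime_card hP
  intro x hx
  rw [mem_centralizer_iff]
  intro y hy
  have h1 : IsMulCommutative P := IsCyclic.isMulCommutative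
  have h2 := h1.is_comm.comm (⟨y, hy⟩ : P) ⟨x, hx⟩
  exact congrArg Subtype.val h2

/-- The block data at an element of prime order with centralizer of prime order. -/
theorem exists_data (hq2 : q ≠ 2) {w : G} (hw : orderOf w = q) (hc : Nat.card (centralizer ({w} : Set G)) = q)
    (hqq : ¬ q ^ 2 ∣ Nat.card G) {e t : ℕ} (ht : e * t = q - 1) (he : Nat.card G / q % q = e) :
    ∃ (M : Ideal AlgInt) (P : Sylow q G), IsPModular q M ∧ Nat.card P = q ∧
      centralizer ((P : Subgroup G) : Set G) = (P : Subgroup G) ∧ Nonempty (BlockData q M P e t) := by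
  have h1 : zpowers w = centralizer ({w} : Set G) := by
    refine Subgroup.eq_of_le_of_card_ge ?_ (by rw [hc, Nat.card_zpowers, hw])
    rw [zpowers_le, mem_centralizer_singleton_iff]
  obtain ⟨M, P, hM, hP, hC, hD⟩ := H561.Eight.exists_blk hq2 ⟨zpowers w, by rw [Nat.card_zpowers, hw], by
    apply le_antisymm
    · rw [h1]
      exact centralizer_le (Set.singleton_subset_iff.2 (h1 ▸ mem_zpowers w))
    · intro x hx
      rw [mem_centralizer_iff]
      intro y hy
      obtain ⟨i, rfl⟩ := mem_zpowers_iff.1 hx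
      obtain ⟨j, rfl⟩ := mem_zpowers_iff.1 hy
      exact ((Commute.refl w).zpow_zpow j i).eq⟩ hqq ht he
  exact ⟨M, P, hM, hP, centralizer_eq hP hC, hD⟩

theorem card_B0 {M : Ideal AlgInt} :
    Nat.card (principalBlock M G) = (H703.Lat.B0 M G).card := by
  have h1 : (principalBlock M G : Set (IrrCharacter G)) = ((H703.Lat.B0 M G : Finset (IrrCharacter G)) : Set _) := by
    ext χ
    rw [Finset.mem_coe, H703.Lat.mem_B0]
  rw [Nat.card_coe_set_eq, h1, Set.ncard_coe_finset]

end Cfsg.Agent.H404.K6.Sieve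
end

-- part: H193/K6/ThFive
section
set_option linter.all false
open scoped Cfsg.Agent.FastGrp

/-!
# S4876: the Thompson group, `p = 5` (helper193)

`C(z) = 5^(1+2) . SL_2(3)` for an element `z` of order 5, and `C(z)` contains elements of orders 1, 2, 3, 4, 6.
-/

set_option autoImplicit false

open Cfsg

namespace Cfsg.Agent.H193.K6.ThFive

open Subgroup Cfsg.Agent.H61.K6 Cfsg.Agent.H80.K6 Cfsg.Agent.H49.ThFive

universe u v

section

variable {H : Type u} [Group H] [Finite H] {x y z s : H}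

/-- `C_H(P) ≤ P` if `|H| = 3000` -/
theorem cent_le (D : Loc x y z s) (hH : Nat.card H = 3000) :
    centralizer (PP x y z : Set H) ≤ PP x y z := by
  obtain ⟨N, hN⟩ := D.exists_LC
  have hn := hN.core.normal
  have h120 := hN.orbit.2
  -- `N = P`
  have h1 : Nat.card ↥N * Nat.card ↥(centralizer ({s} : Set H)) = 3000 * 5 := by
    have h3 : Nat.card ↥(N ⊓ centralizer ({s} : Set H) : Subgroup H) = 5 := by
      have h4 : N ⊓ centralizer ({s} : Set H) = zpowers z := by
        refine le_antisymm hN.core.inf ?_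
        rw [zpowers_le]
        exact ⟨hN.core.zN, mem_centralizer_singleton_iff.2 (D.z_comm s).symm⟩
      rw [h4, Nat.card_zpowers, D.oz]
    have h5 : N.index * Nat.card N = 3000 := by rw [Subgroup.index_mul_card, hH]
    have h6 : N.relIndex (centralizer ({s} : Set H)) = N.index := by
      rw [← Subgroup.relIndex_top_right, ← hN.core.sup, sup_comm, Subgroup.relIndex_sup_right]
    have h7 : N.relIndex (centralizer ({s} : Set H)) * Nat.card ↥(N ⊓ centralizer ({s} : Set H) : Subgroup H)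
        = Nat.card ↥(centralizer ({s} : Set H)) := by
      rw [← Subgroup.inf_relIndex_right, mul_comm, ← Subgroup.relIndex_bot_left, ← Subgroup.relIndex_bot_left]
      exact Subgroup.relIndex_mul_relIndex _ _ _ bot_le inf_le_right
    rw [h3, h6] at h7
    rw [← h7, ← h5]
    ring
  rw [h120] at h1
  have hNP : PP x y z = N := by
    refine Subgroup.eq_of_le_of_card_ge hN.PN ?_
    rw [D.card_P]
    omega
  intro k hk
  have hk' : k ∈ N ⊔ centralizer ({s} : Set H) := by rw [hN.core.sup]; exact mem_top k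
  obtain ⟨u, hu, c, hc, rfl⟩ := mem_sup_of_normal_left.1 hk'
  have huP : u ∈ PP x y z := by rw [hNP]; exact hu
  have hcs : c * s = s * c := mem_centralizer_singleton_iff.1 hc
  rw [mem_centralizer_iff] at hk
  -- `c` centralizes `v` if `s` inverts `v ∈ P`
  have key : ∀ v ∈ PP x y z, s * v * s⁻¹ = v⁻¹ → c * v = v * c := by
    intro v hv hsv
    have h2 := hk v hv
    have h3 : c * v * c⁻¹ = u⁻¹ * v * u := by
      have : u * c * v * c⁻¹ = v * u := by
        rw [← h2]; group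
      calc c * v * c⁻¹ = u⁻¹ * (u * c * v * c⁻¹) := by group
        _ = u⁻¹ * v * u := by rw [this]; group
    have h4 : u⁻¹ * v * u * v⁻¹ ∈ zpowers z := by
      have := hN.comm_mem (m := u⁻¹) (n := v) (N.inv_mem hu) (hNP ▸ hv)
      rwa [inv_inv] at this
    obtain ⟨d, hd⟩ : ∃ d, d = u⁻¹ * v * u * v⁻¹ := ⟨_, rfl⟩
    rw [← hd] at h4
    have h5 : c * v * c⁻¹ = d * v := by rw [h3, hd]; group
    have hdc : ∀ g : H, g * d = d * g := fun g => D.toSit.zc_comm h4 g
    -- conjugate by `s`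
    have h6 : s * (c * v * c⁻¹) * s⁻¹ = (c * v * c⁻¹)⁻¹ := by
      calc s * (c * v * c⁻¹) * s⁻¹ = (s * c) * v * (s * c)⁻¹ := by group
        _ = (c * s) * v * (c * s)⁻¹ := by rw [hcs]
        _ = c * (s * v * s⁻¹) * c⁻¹ := by group
        _ = (c * v * c⁻¹)⁻¹ := by rw [hsv]; group
    rw [h5] at h6
    have h7 : s * (d * v) * s⁻¹ = d * v⁻¹ := by
      calc s * (d * v) * s⁻¹ = (s * d) * v * s⁻¹ := by group
        _ = d * (s * v * s⁻¹) := by rw [hdc s]; group
        _ = d * v⁻¹ := by rw [hsv]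
    have h8 : (d * v)⁻¹ = d⁻¹ * v⁻¹ := by
      rw [mul_inv_rev]
      have := hdc v⁻¹
      calc v⁻¹ * d⁻¹ = (d * v)⁻¹ := by group
        _ = (v * d)⁻¹ := by rw [hdc v]
        _ = d⁻¹ * v⁻¹ := by group
    rw [h7, h8] at h6
    have h9 : d = d⁻¹ := mul_right_cancel h6
    have h10 : d * d = 1 := by
      nth_rw 2 [h9]
      exact mul_inv_cancel d
    have h11 : d = 1 := Cfsg.Agent.ThFive.eq_one_of_sq_odd (m := 5) (by decide) h10 (D.toSit.c_pow h4)
    rw [h11, one_mul, mul_inv_eq_iff_eq_mul] at h5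
    exact h5
  have hcz := hN.cent_P hcs (key x D.xP D.sx) (key y D.yP D.sy)
  exact mul_mem huP (D.ZP hcz)

/-- elements of orders 1, 2, 3, 4, 6 -/
theorem exists_orders (D : Loc x y z s) : ∀ m ∈ ({1, 2, 3, 4, 6} : Finset ℕ), ∃ g : H, orderOf g = m := by
  obtain ⟨N, hN⟩ := D.exists_LC
  have h120 := hN.orbit.2
  have h3F : Fact (Nat.Prime 3) := ⟨Nat.prime_three⟩
  have h2F : Fact (Nat.Prime 2) := ⟨Nat.prime_two⟩
  obtain ⟨t, ht⟩ := exists_prime_orderOf_dvd_card' (G := ↥(centralizer ({s} : Set H))) 3 (by rw [h120]; norm_num)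
  have hts : (t : H) * s = s * t := mem_centralizer_singleton_iff.1 t.2
  have ht' : orderOf (t : H) = 3 := by rw [Subgroup.orderOf_coe, ht]
  have h6 : orderOf (s * (t : H)) = 6 := by
    have : Commute s (t : H) := hts.symm
    rw [this.orderOf_mul_eq_mul_orderOf_of_coprime (by rw [D.os, ht']; norm_num), D.os, ht']
  obtain ⟨g, hg⟩ : ∃ g : H, orderOf g = 4 := by
    by_contra hno
    push Not at hno
    obtain ⟨K, hK⟩ := Sylow.exists_subgroup_card_pow_prime (G := ↥(centralizer ({s} : Set H))) 2 (n := 3)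
      (by rw [h120]; norm_num)
    have h1 : ∀ k ∈ K, ((k : ↥(centralizer ({s} : Set H))) : H) = 1 ∨ ((k : ↥(centralizer ({s} : Set H))) : H) = s := by
      intro k hk
      have h2 : orderOf k ∣ 2 ^ 3 := by
        have := orderOf_dvd_natCard (⟨k, hk⟩ : ↥K)
        rwa [hK, Subgroup.orderOf_mk] at this
      obtain ⟨j, hj, hj'⟩ := (Nat.dvd_prime_pow Nat.prime_two).1 h2
      have h3 : orderOf ((k : ↥(centralizer ({s} : Set H))) : H) = 2 ^ j := by rw [Subgroup.orderOf_coe, hj']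
      interval_cases j
      · left
        exact orderOf_eq_one_iff.1 h3
      · right
        exact D.uniq _ h3 (mem_centralizer_singleton_iff.1 k.2)
      · exact absurd h3 (hno _)
      · exfalso
        apply hno (((k : ↥(centralizer ({s} : Set H))) : H) ^ 2)
        rw [orderOf_pow, h3]
        norm_num
    have h2 : Nat.card ↥K ≤ 2 := by
      have h3 : Nat.card ↥K = (Set.range fun k : ↥K => ((k : ↥(centralizer ({s} : Set H))) : H)).ncard := by
        rw [← Nat.card_coe_set_eq]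
        exact (Nat.card_range_of_injective (f := fun k : ↥K => ((k : ↥(centralizer ({s} : Set H))) : H))
          (fun a b hab => Subtype.ext (Subtype.ext hab))).symm
      rw [h3]
      refine (Set.ncard_le_ncard (t := ({1, s} : Set H)) ?_ (Set.toFinite _)).trans ?_
      swap
      · refine (Set.ncard_insert_le _ _).trans ?_
        rw [Set.ncard_singleton]
      rintro _ ⟨k, rfl⟩
      rcases h1 k k.2 with h4 | h4
      · left; exact h4
      · right; exact h4
    rw [hK] at h2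
    norm_num at h2
  intro m hm
  simp only [Finset.mem_insert, Finset.mem_singleton] at hm
  rcases hm with rfl | rfl | rfl | rfl | rfl
  · exact ⟨1, orderOf_one⟩
  · exact ⟨s, D.os⟩
  · exact ⟨t, ht'⟩
  · exact ⟨g, hg⟩
  · exact ⟨_, h6⟩

end

/-- **the Thompson group, `p = 5`** -/
theorem krow : KRow.{u, 0} 5 Spor.Th := by
  have hf : Fact (Nat.Prime 5) := ⟨Nat.prime_five⟩
  obtain ⟨hfin, x, y, z, a, D⟩ := exists_dat
  have hs : IsSimpleGroup Spor.Th := Cfsg.Agent.H478.RadTh.simple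
  have hna : ∃ a b : Spor.Th, a * b ≠ b * a := ⟨x, y, D.xy_ne⟩
  have hC := D.card_C
  obtain ⟨N, hN⟩ := D.loc.exists_LC
  have hPn := hN.P_normal
  have hw : EpsGe.{u, 0} 5 z 5 := by
    have h1 := epsGe_constrained (p := 5) (x := z)
      (PP (H := ↥(centralizer ({z} : Set Spor.Th))) ⟨x, mem_centralizer_singleton_iff.2 D.xz⟩
      ⟨y, mem_centralizer_singleton_iff.2 D.yz⟩ ⟨z, mem_centralizer_singleton_iff.2 rfl⟩)
      D.loc.isP (cent_le D.loc hC) {1, 2, 3, 4, 6} (by
        intro m hm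
        obtain ⟨g, hg⟩ := exists_orders D.loc m hm
        refine ⟨?_, (g : Spor.Th), mem_centralizer_singleton_iff.1 g.2, by rw [Subgroup.orderOf_coe, hg]⟩
        simp only [Finset.mem_insert, Finset.mem_singleton] at hm
        rcases hm with rfl | rfl | rfl | rfl | rfl <;> norm_num)
    exact h1
  refine KRow.of_weights (not_compl_of_simple hna (by rw [Cfsg.Agent.H478.RadTh.card_Th]; norm_num)) {z} ?_ ?_
    (fun _ => 5) ?_ ?_
  · intro w hw
    rw [Finset.mem_singleton] at hw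
    subst hw
    exact ⟨⟨1, by rw [D.oz, pow_one]⟩, fun h => by
      have := D.oz
      rw [h, orderOf_one] at this
      norm_num at this⟩
  · intro a ha b hb σ _
    rw [Finset.mem_singleton] at ha hb
    rw [ha, hb]
  · intro w hw'
    rw [Finset.mem_singleton] at hw'
    subst hw'
    exact hw.wtGe
  · simp

/-- **`Th`, `p = 5`.** -/
theorem _root_.Cfsg.Agent.H193.K6.th_five {X : Type v} [Group X] (h : Spor.IsoTh X) : KRow.{u, v} 5 X := by
  obtain ⟨e⟩ := h
  exact krow.congr e.symm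

end Cfsg.Agent.H193.K6.ThFive
end
end
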